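import Cfsg.Agent.Lib.Zsigmondy
import Mathlib

/-!
# Primes with a prescribed order of `q` or `-q`
-/

set_option autoImplicit false

namespace Cfsg.Agent.H149.NegPrime

/-- a prime `r` with `orderOf (q : ZMod r) = e`, `q = p ^ f`, prime to `p f` -/
theorem exists_pos_prime {p f q e : ℕ} (hp : p.Prime) (hq : q = p ^ f) (hf : 1 ≤ f) (he : 3 ≤ e)
    (hex : ¬ (e = 6 ∧ q = 2)) :
    ∃ r : ℕ, r.Prime ∧ orderOf (q : ZMod r) = e ∧ (¬ r ∣ f) ∧ r ≠ p ∧ e < r := by
  by_cases h4 : e = 3 ∧ q = 4
  · obtain ⟨rfl, rfl⟩ := h4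
    refine ⟨7, by norm_num, ?_, ?_, ?_, by norm_num⟩
    · rw [orderOf_eq_iff (by norm_num)]
      constructor
      · decide
      · intro m hm hm0
        interval_cases m <;> decide
    · have h2 : p = 2 := by
        have h3 : p ∣ 4 := by rw [hq]; exact dvd_pow_self p (by omega)
        have h5 : p ∣ 2 ^ 2 := h3
        exact (Nat.prime_dvd_prime_iff_eq hp Nat.prime_two).1 (hp.dvd_of_dvd_pow h5)
      subst h2
      have h3 : f = 2 := by
        have : (2 : ℕ) ^ 2 = 2 ^ f := hq
        exact (Nat.pow_right_injective le_rfl this).symm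
      rw [h3]
      norm_num
    · rintro rfl
      have : (7 : ℕ) ∣ 4 := by rw [hq]; exact dvd_pow_self 7 (by omega)
      norm_num at this
  have hfe : f * e ≠ 2 := by
    intro h
    have : e ∣ 2 := Dvd.intro_left f h
    have := Nat.le_of_dvd (by norm_num) this
    omega
  have hfe0 : 2 ≤ f * e := by nlinarith
  have h6 : ¬ (p = 2 ∧ f * e = 6) := by
    rintro ⟨rfl, h⟩
    have h1 : e ∣ 6 := Dvd.intro_left f h
    have h2 := Nat.le_of_dvd (by norm_num) h1
    interval_cases e
    · apply h4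
      refine ⟨rfl, ?_⟩
      have : f = 2 := by omega
      rw [hq, this]; norm_num
    · omega
    · omega
    · apply hex
      refine ⟨rfl, ?_⟩
      have : f = 1 := by omega
      rw [hq, this]; norm_num
  obtain ⟨r, hr, ho⟩ := Lib.Zsigmondy.exists_prime_orderOf (a := p) (n := f * e) hp.two_le hfe0
    (fun h => (hfe h).elim) h6
  have := Fact.mk hr
  have hrp : ¬ r ∣ p := by
    intro h
    rw [Nat.prime_dvd_prime_iff_eq hr hp] at h
    subst h
    rw [ZMod.natCast_self, orderOf_zero] at ho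
    omega
  have hd := Lib.Zsigmondy.orderOf_dvd_pred hr hrp
  rw [ho] at hd
  have hle := Nat.le_of_dvd (by have := hr.two_le; omega) hd
  refine ⟨r, hr, ?_, ?_, ?_, ?_⟩
  · rw [hq, Nat.cast_pow, orderOf_pow_of_dvd (by omega) (by rw [ho]; exact Dvd.intro _ rfl), ho,
      Nat.mul_div_cancel_left _ (by omega)]
  · intro h
    have := Nat.le_of_dvd (by omega) h
    have : f ≤ f * e := Nat.le_mul_of_pos_right f (by omega)
    have := hr.two_le
    omega
  · rintro rfl
    exact hrp dvd_rfl
  · have : e ≤ f * e := Nat.le_mul_of_pos_left e (by omega)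
    have := hr.two_le
    omega

/-- the order of `-x` for `x` of order `e` in a field of characteristic not two -/
theorem orderOf_neg_case {r : ℕ} [Fact r.Prime] {x : ZMod r} {i : ℕ} (hi : 3 ≤ i)
    (he : orderOf x = if Odd i then 2 * i else if i % 4 = 2 then i / 2 else i) : orderOf (-x) = i := by
  have hhalf : ∀ k, 0 < k → orderOf x = 2 * k → x ^ k = -1 := by
    intro k hk h
    have h1 : (x ^ k) ^ 2 = 1 := by
      rw [← pow_mul, mul_comm, ← h, pow_orderOf_eq_one]
    rcases mul_self_eq_one_iff.1 ((sq (x ^ k)).symm.trans h1) with h2 | h2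
    · exfalso
      have := orderOf_dvd_of_pow_eq_one h2
      rw [h] at this
      have := Nat.le_of_dvd hk this
      omega
    · exact h2
  split_ifs at he with hodd h4
  · have h1 := hhalf i (by omega) he
    have h2 : -x = x ^ (i + 1) := by rw [pow_succ, h1, neg_one_mul]
    rw [h2, orderOf_pow' x (by omega), he]
    obtain ⟨j, rfl⟩ := hodd
    have h3 : Nat.gcd (2 * (2 * j + 1)) (2 * j + 1 + 1) = 2 := by
      rw [show 2 * j + 1 + 1 = 2 * (j + 1) by ring, Nat.gcd_mul_left]
      have : Nat.gcd (2 * j + 1) (j + 1) = 1 := by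
        rw [show 2 * j + 1 = j + (j + 1) by ring, Nat.gcd_add_self_left, Nat.gcd_self_add_right]
        exact Nat.gcd_one_right j
      rw [this]
    rw [h3]
    omega
  · have hr2 : r ≠ 2 := by
      rintro rfl
      have h2 : orderOf x ≤ 2 := by
        have := orderOf_le_card_univ (x := x)
        rwa [ZMod.card] at this
      omega
    have h1 : orderOf (-1 : ZMod r) = 2 := by
      rw [orderOf_neg_one, if_neg]
      rw [ringChar.eq (ZMod r) r]
      exact hr2
    have h2 : Commute (-1 : ZMod r) x := Commute.all _ _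
    rw [← neg_one_mul, h2.orderOf_mul_eq_mul_orderOf_of_coprime, h1, he]
    · omega
    · rw [h1, he, Nat.coprime_two_left]
      rw [Nat.odd_iff]
      omega
  · have h5 : i % 4 = 0 := by
      rw [Nat.not_odd_iff] at hodd
      omega
    obtain ⟨j, rfl⟩ : ∃ j, i = 4 * j := ⟨i / 4, by omega⟩
    have h1 := hhalf (2 * j) (by omega) (by omega)
    have h2 : -x = x ^ (2 * j + 1) := by rw [pow_succ, h1, neg_one_mul]
    rw [h2, orderOf_pow' x (by omega), he]
    have h3 : Nat.gcd (4 * j) (2 * j + 1) = 1 := by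
      have h7 : Nat.Coprime (2 * j + 1) (2 * j) := by simp
      have h8 : Nat.Coprime (2 * j + 1) 2 := by
        rw [Nat.coprime_two_right, Nat.odd_iff]; omega
      have h9 := Nat.Coprime.mul_right h8 h7
      rw [show 2 * (2 * j) = 4 * j by ring] at h9
      exact h9.symm
    rw [h3, Nat.div_one]

/-- a prime `r` with `orderOf (-q : ZMod r) = i` -/
theorem exists_neg_prime {p f q i : ℕ} (hp : p.Prime) (hq : q = p ^ f) (hf : 1 ≤ f) (hi : 3 ≤ i)
    (hex : ¬ (i = 3 ∧ q = 2)) :
    ∃ r : ℕ, r.Prime ∧ orderOf (-(q : ZMod r)) = i ∧ (¬ r ∣ f) ∧ r ≠ p ∧ r ≠ 2 := by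
  have he : 3 ≤ (if Odd i then 2 * i else if i % 4 = 2 then i / 2 else i) := by
    split_ifs with h1 h2
    · omega
    · omega
    · omega
  obtain ⟨r, hr, ho, hrf, hrp, hle⟩ := exists_pos_prime hp hq hf he (by
    rintro ⟨h, h2⟩
    apply hex
    refine ⟨?_, h2⟩
    split_ifs at h <;> omega)
  have := Fact.mk hr
  exact ⟨r, hr, orderOf_neg_case hi ho, hrf, hrp, by omega⟩

end Cfsg.Agent.H149.NegPrime
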