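import Cfsg.Agent.H149.PGU
import Cfsg.Agent.H149.NegPrime
import Mathlib

/-!
# `Has3Out` for `PSU_n(q)`, `n ≥ 5`
-/

set_option autoImplicit false

namespace Cfsg.Agent.H149.PGU

open NegPrime

/-- a prime `r` with `orderOf (-q) = i ≤ n` divides `|PSU_n(q)|` -/
theorem dvd_card_psu {F : Type*} [Field F] [Fintype F] {q n r i : ℕ} (hF : Fintype.card F = q ^ 2) (hn : 2 ≤ n)
    (hr : r.Prime) (hi : 2 ≤ i) (hin : i ≤ n) (ho : orderOf (-(q : ZMod r)) = i) :
    r ∣ Nat.card (Cfsg.PSU n F q) := by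
  have := Fact.mk hr
  have hq1 : ¬ r ∣ q + 1 := by
    intro h
    have h1 : ((q + 1 : ℕ) : ZMod r) = 0 := (ZMod.natCast_eq_zero_iff _ _).2 h
    have h2 : -(q : ZMod r) = 1 := by
      push_cast at h1
      linear_combination -h1
    rw [h2, orderOf_one] at ho
    omega
  have hq0 : q ≠ 0 := by
    rintro rfl
    have := Fintype.card_pos (α := F)
    omega
  have h := S0280.result hF n hn
  have h1 : (-(q : ZMod r)) ^ i = 1 := by rw [← ho, pow_orderOf_eq_one]
  have h2 : r ∣ ∏ j ∈ Finset.range n, (if Even j then q ^ (j + 1) + 1 else q ^ (j + 1) - 1) := by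
    apply Dvd.dvd.trans _ (Finset.dvd_prod_of_mem _ (Finset.mem_range.2 (by omega : i - 1 < n)))
    rw [Nat.sub_add_cancel (by omega)]
    split_ifs with he
    · have hodd : Odd i := by
        rw [Nat.even_iff] at he
        rw [Nat.odd_iff]
        omega
      rw [← ZMod.natCast_eq_zero_iff]
      push_cast
      rw [hodd.neg_pow] at h1
      linear_combination -h1
    · have heven : Even i := by
        rw [Nat.even_iff] at he ⊢
        omega
      rw [← ZMod.natCast_eq_zero_iff, Nat.cast_sub (Nat.one_le_pow _ _ (Nat.pos_of_ne_zero hq0))]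
      push_cast
      rw [heven.neg_pow] at h1
      linear_combination h1
  have h3 : r ∣ Nat.gcd n (q + 1) * ((q + 1) * Nat.card (Cfsg.PSU n F q)) := by
    rw [h]
    exact h2.mul_left _
  rcases (Nat.Prime.dvd_mul hr).1 h3 with h4 | h4
  · exact (hq1 (h4.trans (Nat.gcd_dvd_right _ _))).elim
  · exact ((Nat.Prime.dvd_mul hr).1 h4).resolve_left hq1

/-- **Three pairwise non-adjacent primes in `PSU_n(q)`, `n ≥ 5`, `(n, q) ≠ (5, 2)`.** -/
theorem psu_has3Out {F : Type*} [Field F] [Fintype F] {p f q n : ℕ} [Fact p.Prime] (hf : 1 ≤ f) (hq : q = p ^ f)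
    (hF : Fintype.card F = q ^ 2) (hn : 5 ≤ n) (hex : ¬ (n = 5 ∧ q = 2))
    (hO : Nat.card (Cfsg.Out (Cfsg.PSU n F q)) = Nat.gcd n (q + 1) * (2 * f)) :
    H163.PG.Has3Out (Cfsg.PSU n F q) := by
  have hp : p.Prime := Fact.out
  have key : ∀ i, n - 2 ≤ i → i ≤ n → ∃ r : ℕ, r.Prime ∧ orderOf (-(q : ZMod r)) = i ∧ r ≠ p ∧
      (¬ r ∣ q + 1) ∧ r ∣ Nat.card (Cfsg.PSU n F q) ∧ ¬ r ∣ Nat.card (Cfsg.Out (Cfsg.PSU n F q)) := by
    intro i hi1 hi2
    obtain ⟨r, hr, ho, hrf, hrp, hr2⟩ := exists_neg_prime (i := i) hp hq hf (by omega) (by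
      rintro ⟨h1, h2⟩
      exact hex ⟨by omega, h2⟩)
    have := Fact.mk hr
    have hq1 : ¬ r ∣ q + 1 := by
      intro h
      have h1 : ((q + 1 : ℕ) : ZMod r) = 0 := (ZMod.natCast_eq_zero_iff _ _).2 h
      have h2 : -(q : ZMod r) = 1 := by
        push_cast at h1
        linear_combination -h1
      rw [h2, orderOf_one] at ho
      omega
    refine ⟨r, hr, ho, hrp, hq1, dvd_card_psu hF (by omega) hr (by omega) hi2 ho, ?_⟩
    rw [hO]
    intro h
    rcases (Nat.Prime.dvd_mul hr).1 h with h1 | h1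
    · exact hq1 (h1.trans (Nat.gcd_dvd_right _ _))
    · rcases (Nat.Prime.dvd_mul hr).1 h1 with h2 | h2
      · exact hr2 ((Nat.prime_dvd_prime_iff_eq hr Nat.prime_two).1 h2)
      · exact hrf h2
  have adj : ∀ i j r s : ℕ, i < j → n - 2 ≤ i → j ≤ n → r.Prime → s.Prime → orderOf (-(q : ZMod r)) = i →
      orderOf (-(q : ZMod s)) = j → r ≠ p → s ≠ p → (¬ r ∣ q + 1) → (¬ s ∣ q + 1) →
      ¬ H163.PG.Adj (Cfsg.PSU n F q) r s := by
    intro i j r s hij hi hj hr hs hor hos hrp hsp hr1 hs1 hadj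
    have hrs : r ≠ s := by
      rintro rfl
      omega
    rcases psu_adj hq hF (by omega) hr hs hrs hrp hsp hr1 hs1 hadj with h | ⟨d, hd0, hdn, h1, h2⟩
    · omega
    · rw [hor] at h1
      rw [hos] at h2
      have h3 : d = j := by
        obtain ⟨k, rfl⟩ := h2
        have : k ≠ 0 := by rintro rfl; omega
        have : k < 2 := by
          by_contra hk
          have : j * 2 ≤ j * k := Nat.mul_le_mul_left j (by omega)
          omega
        have : k = 1 := by omega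
        rw [this, mul_one]
      rw [h3] at h1
      obtain ⟨k, hk⟩ := h1
      have : k ≠ 0 := by rintro rfl; omega
      have : k ≠ 1 := by rintro rfl; omega
      have : i * 2 ≤ i * k := Nat.mul_le_mul_left i (by omega)
      omega
  obtain ⟨r1, hr1, ho1, hp1, hq1, hd1, hO1⟩ := key (n - 2) le_rfl (by omega)
  obtain ⟨r2, hr2, ho2, hp2, hq2, hd2, hO2⟩ := key (n - 1) (by omega) (by omega)
  obtain ⟨r3, hr3, ho3, hp3, hq3, hd3, hO3⟩ := key n (by omega) le_rfl
  refine ⟨r1, r2, r3, hr1, hr2, hr3, ?_, ?_, ?_, hd1, hd2, hd3, ?_, ?_, ?_, hO1, hO2, hO3⟩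
  · rintro rfl; omega
  · rintro rfl; omega
  · rintro rfl; omega
  · exact adj _ _ _ _ (by omega) le_rfl (by omega) hr1 hr2 ho1 ho2 hp1 hp2 hq1 hq2
  · exact adj _ _ _ _ (by omega) (by omega) le_rfl hr2 hr3 ho2 ho3 hp2 hp3 hq2 hq3
  · exact adj _ _ _ _ (by omega) le_rfl le_rfl hr1 hr3 ho1 ho3 hp1 hp3 hq1 hq3

end Cfsg.Agent.H149.PGU
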