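import Cfsg.Agent.H376.SpOrbit
import Cfsg.Agent.H376.SpCount
import Cfsg.Agent.H163.PG.Base
import Cfsg.Agent.LieClassical.OmegaCenter
import Cfsg.Agent.LieClassical.OrthForms
import Cfsg.Agent.LieClassical.OrthFinite
import Mathlib

/-!
# Non-adjacency in the prime graph of the groups `PΩ(Q)` with nondegenerate polar form

`orth_nonadj`: `r ≠ s` odd primes different from the characteristic, `k`, `l` the orders of `q` modulo `r`, `s`,
`η(k) ≤ η(l)`, `l / k` not an odd integer, `dim < 2 (η(k) + η(l))`: no element of order `r * s` in `PΩ(Q)`.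
-/

set_option autoImplicit false

namespace Cfsg.Agent.H149.PGO

open Matrix Module QuadraticMap Cfsg.Agent.H376
open Cfsg.Agent.LieClassical.OrthCore Cfsg.Agent.LieClassical.OrthForms

variable {ι : Type} [Fintype ι] [DecidableEq ι] {F : Type*} [Field F]

/-- an isometry of a nondegenerate form is similar to its inverse (up to transposition) -/
theorem charpoly_isometry (Q : QuadraticForm F (ι → F)) (hQ : Nondeg Q) (X : Matrix ι ι F)
    (hX : ∀ v, Q (X *ᵥ v) = Q v) : X.charpoly = X⁻¹.charpoly := by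
  classical
  let B : Matrix ι ι F := Matrix.of fun i j => polar Q (Pi.single i 1) (Pi.single j 1)
  have hpol : ∀ u v, polar Q (X *ᵥ u) (X *ᵥ v) = polar Q u v := by
    intro u v
    simp only [polar]
    rw [← Matrix.mulVec_add, hX, hX, hX]
  have hB : ∀ u v : ι → F, u ⬝ᵥ (B *ᵥ v) = polar Q u v := by
    intro u v
    have hu : u = ∑ i, u i • Pi.single i (1 : F) := by
      ext j; simp [Finset.sum_apply, Pi.single_apply]
    have hv : v = ∑ j, v j • Pi.single j (1 : F) := by
      ext j; simp [Finset.sum_apply, Pi.single_apply]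
    have h1 : polar Q u v = ∑ i, ∑ j, u i * (v j * B i j) := by
      conv_lhs => rw [hu, hv]
      rw [← polarBilin_apply_apply, map_sum (polarBilin Q), LinearMap.sum_apply]
      apply Finset.sum_congr rfl
      intro i _
      rw [map_sum]
      apply Finset.sum_congr rfl
      intro j _
      rw [polarBilin_apply_apply, polar_smul_left, polar_smul_right, smul_eq_mul, smul_eq_mul]
      rfl
    rw [h1]
    simp only [dotProduct, Matrix.mulVec]
    apply Finset.sum_congr rfl
    intro i _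
    rw [Finset.mul_sum]
    apply Finset.sum_congr rfl
    intro j _
    ring
  have hdet : B.det ≠ 0 := by
    intro h0
    obtain ⟨v, hv0, hv⟩ := Matrix.exists_mulVec_eq_zero_iff.2 h0
    apply hv0
    apply hQ
    intro y
    rw [polar_comm, ← hB, hv, dotProduct_zero]
  have hXB : Xᵀ * B * X = B := by
    ext i j
    have h1 := hpol (Pi.single i 1) (Pi.single j 1)
    rw [← hB, ← hB] at h1
    have h2 : ∀ (M : Matrix ι ι F), (Pi.single i (1 : F) : ι → F) ⬝ᵥ (M *ᵥ Pi.single j 1) = M i j := by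
      intro M
      rw [Matrix.mulVec_single_one, single_one_dotProduct, Matrix.col_apply]
    rw [h2 B] at h1
    rw [← h1, ← h2 (Xᵀ * B * X), ← Matrix.mulVec_mulVec, ← Matrix.mulVec_mulVec, Matrix.dotProduct_mulVec,
      Matrix.vecMul_transpose]
  have hBu : IsUnit B.det := isUnit_iff_ne_zero.2 hdet
  have hXdet : IsUnit X.det := by
    have h1 := congrArg Matrix.det hXB
    rw [Matrix.det_mul, Matrix.det_mul, Matrix.det_transpose] at h1
    rw [isUnit_iff_ne_zero]
    intro h0
    rw [h0, mul_zero] at h1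
    exact hdet h1.symm
  have h1 : X⁻¹ = B⁻¹ * Xᵀ * B := by
    rw [Matrix.inv_eq_left_inv]
    calc B⁻¹ * Xᵀ * B * X = B⁻¹ * (Xᵀ * B * X) := by simp only [mul_assoc]
      _ = 1 := by rw [hXB, Matrix.nonsing_inv_mul _ hBu]
  let u : (Matrix ι ι F)ˣ := ⟨B⁻¹, B, Matrix.nonsing_inv_mul _ hBu, Matrix.mul_nonsing_inv _ hBu⟩
  have h4 := Matrix.charpoly_units_conj u Xᵀ
  rw [Matrix.charpoly_transpose] at h4
  rw [h1]
  rw [← Matrix.coe_units_inv] at h4
  exact h4.symm

theorem orth_nonadj [Fintype F] {p : ℕ} [Fact p.Prime] [CharP F p] (Q : QuadraticForm F (ι → F)) (hQ : Nondeg Q)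
    (hc : 3 ≤ Fintype.card ι) {r s : ℕ} (hr : r.Prime) (hs : s.Prime) (hr2 : r ≠ 2) (hs2 : s ≠ 2) (hrp : r ≠ p)
    (hsp : s ≠ p) (hrs : r ≠ s) {k l ηk ηl : ℕ} (hk : k = orderOf ((Fintype.card F : ℕ) : ZMod r))
    (hl : l = orderOf ((Fintype.card F : ℕ) : ZMod s))
    (hηk : (Odd k ∧ ηk = k) ∨ (Even k ∧ 2 * ηk = k)) (hηl : (Odd l ∧ ηl = l) ∨ (Even l ∧ 2 * ηl = l))
    (hkl : ηk ≤ ηl) (hno : ¬ ∃ t : ℕ, Odd t ∧ l = k * t) (hN : Fintype.card ι < 2 * (ηk + ηl)) :
    ¬ H163.PG.Adj (Cfsg.POmega F ⇑Q) r s := by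
  classical
  have hp : p.Prime := Fact.out
  have hrF : (r : F) ≠ 0 := by
    intro h0
    rw [CharP.cast_eq_zero_iff F p] at h0
    exact hrp (((Nat.dvd_prime hr).1 h0).resolve_left hp.one_lt.ne').symm
  have hsF : (s : F) ≠ 0 := by
    intro h0
    rw [CharP.cast_eq_zero_iff F p] at h0
    exact hsp (((Nat.dvd_prime hs).1 h0).resolve_left hp.one_lt.ne').symm
  have hcopF : ∀ t : ℕ, t.Prime → t ≠ p → Nat.Coprime (Fintype.card F) t := by
    intro t ht htp
    obtain ⟨m, hp', hm⟩ := FiniteField.card F p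
    rw [hm]
    exact Nat.Coprime.pow_left _ ((Nat.coprime_primes hp' ht).2 (Ne.symm htp))
  have hqr := hcopF r hr hrp
  have hqs := hcopF s hs hsp
  have hqrs : Nat.Coprime (Fintype.card F) (r * s) := Nat.Coprime.mul_right hqr hqs
  have hro : Odd r := hr.odd_of_ne_two hr2
  have hso : Odd s := hs.odd_of_ne_two hs2
  have h2rs : Nat.Coprime 2 (r * s) := Nat.coprime_two_left.2 (hro.mul hso)
  have hsing : ∃ u : ι → F, u ≠ 0 ∧ Q u = 0 := by
    obtain ⟨w, hw0, hw, -⟩ := Cfsg.Agent.LieClassical.OrthFinite.exists_sing_perp (Q := Q) (n := 0) ![] (by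
      rw [Module.finrank_fintype_fun_eq_card]; omega)
    exact ⟨w, hw0, hw⟩
  have hnd : (polarBilin Q).Nondegenerate := by
    constructor
    · intro x hx
      exact hQ x hx
    · intro x hx
      apply hQ x
      intro y
      rw [polar_comm]
      exact hx y
  set Z := Subgroup.center (Cfsg.Omega F ⇑Q) with hZ
  have hZc : ∀ x ∈ Z, x ^ 2 = 1 := by
    intro x hx
    rw [Cfsg.Agent.LieClassical.OmegaCenter.mem_center_omega_iff Q hnd hc hsing] at hx
    apply Cfsg.Agent.LieClassical.OmegaCenter.omega_ext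
    have h1 : Cfsg.Agent.LieClassical.OmegaCenter.omegaMat (x ^ 2) =
        Cfsg.Agent.LieClassical.OmegaCenter.omegaMat x ^ 2 := rfl
    rw [h1]
    rcases hx with h | h
    · rw [h, one_pow]; rfl
    · rw [h, neg_one_sq]; rfl
  rintro ⟨x, hx⟩
  obtain ⟨y, hy1, hy2⟩ := PrimeOrd.exists_lift Z hZc h2rs x hx
  have hys : y ^ s ≠ 1 := by
    intro h
    have h3 : (QuotientGroup.mk y : Cfsg.POmega F ⇑Q) ^ s = 1 := by
      rw [← QuotientGroup.mk_pow, h, QuotientGroup.mk_one]
    have h4 := orderOf_dvd_of_pow_eq_one h3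
    rw [hy2] at h4
    have := Nat.le_of_dvd hs.pos h4
    nlinarith [hr.two_le, hs.pos]
  have hyr : y ^ r ≠ 1 := by
    intro h
    have h3 : (QuotientGroup.mk y : Cfsg.POmega F ⇑Q) ^ r = 1 := by
      rw [← QuotientGroup.mk_pow, h, QuotientGroup.mk_one]
    have h4 := orderOf_dvd_of_pow_eq_one h3
    rw [hy2] at h4
    have := Nat.le_of_dvd hr.pos h4
    nlinarith [hs.two_le, hr.pos]
  set X : Matrix ι ι F := Cfsg.Agent.LieClassical.OmegaCenter.omegaMat y with hXdef
  have hXpow : ∀ i : ℕ, X ^ i = Cfsg.Agent.LieClassical.OmegaCenter.omegaMat (y ^ i) := fun i => rfl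
  have hval : ∀ i : ℕ, X ^ i = 1 ↔ y ^ i = 1 := by
    intro i
    constructor
    · intro h
      apply Cfsg.Agent.LieClassical.OmegaCenter.omega_ext
      rw [← hXpow, h]
      rfl
    · intro h
      rw [hXpow, h]
      rfl
  have hXiso : ∀ v, Q (X *ᵥ v) = Q v := fun v => y.1.2 v v
  obtain ⟨L, _, R, hR, hRq, hRi, hR1, ⟨a, ha, ha1⟩, ⟨b, hb, hb1⟩⟩ := SpOrbit.exists_roots (r := r) (s := s)
    X (charpoly_isometry Q hQ X hXiso) hrF hsF ((hval _).2 hy1) (fun h => hys ((hval _).1 h))
    (fun h => hyr ((hval _).1 h))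
  have : NeZero (r * s) := ⟨(Nat.mul_pos hr.pos hs.pos).ne'⟩
  have : NeZero r := ⟨hr.pos.ne'⟩
  have : NeZero s := ⟨hs.pos.ne'⟩
  have hbound := SpCount.bound hr hs hr2 hs2 hqs hqrs hk hl hηl hkl hno
  have hbig : ∀ x ∈ R, orderOf x = r * s → False := by
    intro x hx hxo
    have h3 := SpCount.card_le hqrs R hRq hRi hx hxo
    have h4 := Finset.card_filter_le R (fun y => orderOf y = r * s)
    omega
  have hdiv : ∀ x ∈ R, orderOf x = 1 ∨ orderOf x = r ∨ orderOf x = s := by
    intro x hx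
    have h3 := orderOf_dvd_of_pow_eq_one (hR1 x hx)
    obtain ⟨u, v, hu, hv, huv⟩ := exists_dvd_and_dvd_of_dvd_mul h3
    rcases (Nat.dvd_prime hr).1 hu with h4 | h4 <;> rcases (Nat.dvd_prime hs).1 hv with h5 | h5 <;>
      rw [h4, h5] at huv
    · left; simpa using huv
    · right; right; simpa using huv
    · right; left; simpa using huv
    · exact (hbig x hx huv).elim
  have hao : orderOf a = r := by
    rcases hdiv a ha with h | h | h
    · exact (ha1 (by rw [orderOf_eq_one_iff.1 h, one_pow])).elim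
    · exact h
    · exact (ha1 (by rw [← h, pow_orderOf_eq_one])).elim
  have hbo : orderOf b = s := by
    rcases hdiv b hb with h | h | h
    · exact (hb1 (by rw [orderOf_eq_one_iff.1 h, one_pow])).elim
    · exact (hb1 (by rw [← h, pow_orderOf_eq_one])).elim
    · exact h
  have h3 := SpCount.card_le hqr R hRq hRi ha hao
  have h4 := SpCount.card_le hqs R hRq hRi hb hbo
  have h5 := Nat.le_of_dvd Nat.card_pos (SpCount.dvd_card hr hr2 hqr hk hηk)
  have h6 := Nat.le_of_dvd Nat.card_pos (SpCount.dvd_card hs hs2 hqs hl hηl)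
  have h7 : (R.filter fun y => orderOf y = r).card + (R.filter fun y => orderOf y = s).card ≤
      R.card := by
    rw [← Finset.card_union_of_disjoint]
    · apply Finset.card_le_card
      intro z hz
      rw [Finset.mem_union, Finset.mem_filter, Finset.mem_filter] at hz
      tauto
    · rw [Finset.disjoint_filter]
      intro z _ hz1 hz2
      exact hrs (hz1.symm.trans hz2)
  omega

end Cfsg.Agent.H149.PGO
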