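import Cfsg.Agent.H149.PGO
import Cfsg.Agent.H149.NegPrime
import Cfsg.Agent.S0293
import Cfsg.Agent.S0294
import Mathlib

/-!
# `Has3Out` for `PΩ⁺_{2m}(q)` and `PΩ⁻_{2m}(q)`, `m ≥ 4`
-/

set_option autoImplicit false

namespace Cfsg.Agent.H149.PGO

open NegPrime Cfsg.Agent.LieClassical.OrthCore Cfsg.Agent.LieClassical.OrthForms

theorem dvd_pow_sub {q r d : ℕ} (h : orderOf ((q : ℕ) : ZMod r) ∣ d) (hq : 1 ≤ q) :
    r ∣ q ^ d - 1 := by
  rw [orderOf_dvd_iff_pow_eq_one] at h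
  have h3 : 1 ≤ q ^ d := Nat.one_le_pow _ _ hq
  rw [← ZMod.natCast_eq_zero_iff, Nat.cast_sub h3, Nat.cast_pow, h, Nat.cast_one, sub_self]

theorem not_dvd_gcd {r a : ℕ} (hr : r.Prime) (h3 : 3 < r) : ¬ r ∣ Nat.gcd 4 a := by
  intro h
  have h1 : r ∣ 2 ^ 2 := h.trans (Nat.gcd_dvd_left _ _)
  have := (Nat.prime_dvd_prime_iff_eq hr Nat.prime_two).1 (hr.dvd_of_dvd_pow h1)
  omega

theorem dvd_plus {F : Type*} [Field F] [Fintype F] {m r e : ℕ} (hm : 4 ≤ m) (hr : r.Prime) (h3 : 3 < r)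
    (he : orderOf ((Fintype.card F : ℕ) : ZMod r) = e) (h : e ∣ m ∨ ∃ i, i + 1 < m ∧ e ∣ 2 * (i + 1)) :
    r ∣ Nat.card (Cfsg.POmega F (Cfsg.quadFormPlus m F)) := by
  have hc := S0293.result (F := F) rfl m hm
  have h1 : r ∣ Nat.gcd 4 (Fintype.card F ^ m - 1) * Nat.card (Cfsg.POmega F (Cfsg.quadFormPlus m F)) := by
    rw [hc]
    rcases h with h | ⟨i, hi, h⟩
    · exact ((dvd_pow_sub (by rw [he]; exact h) Fintype.card_pos).mul_left _).mul_right _
    · apply Dvd.dvd.mul_left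
      exact (dvd_pow_sub (by rw [he]; exact h) Fintype.card_pos).trans
        (Finset.dvd_prod_of_mem _ (Finset.mem_range.2 (by omega : i < m - 1)))
  exact ((Nat.Prime.dvd_mul hr).1 h1).resolve_left (not_dvd_gcd hr h3)

theorem dvd_minus {F : Type*} [Field F] [Fintype F] {m r e : ℕ} (hm : 4 ≤ m) {a b : F}
    (hab : ∀ z₁ z₂ : F, z₁ ^ 2 + a * z₁ * z₂ + b * z₂ ^ 2 = 0 → z₁ = 0 ∧ z₂ = 0) (hr : r.Prime) (h3 : 3 < r)
    (he : orderOf ((Fintype.card F : ℕ) : ZMod r) = e) (h : e = 2 * m ∨ ∃ i, i + 1 < m ∧ e ∣ 2 * (i + 1)) :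
    r ∣ Nat.card (Cfsg.POmega F (Cfsg.quadFormMinus (m - 1) F a b)) := by
  have hc := S0294.result (F := F) rfl m hm a b hab
  have := Fact.mk hr
  have h1 : r ∣ Nat.gcd 4 (Fintype.card F ^ m + 1) * Nat.card (Cfsg.POmega F (Cfsg.quadFormMinus (m - 1) F a b)) := by
    rw [hc]
    rcases h with h | ⟨i, hi, h⟩
    · apply Dvd.dvd.mul_right
      apply Dvd.dvd.mul_left
      rw [← ZMod.natCast_eq_zero_iff]
      push_cast
      have h2 : ((Fintype.card F : ℕ) : ZMod r) ^ m * ((Fintype.card F : ℕ) : ZMod r) ^ m = 1 := by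
        rw [← pow_add, ← two_mul, ← h, ← he, pow_orderOf_eq_one]
      rcases mul_self_eq_one_iff.1 h2 with h4 | h4
      · exfalso
        have := orderOf_dvd_of_pow_eq_one h4
        rw [he, h] at this
        have := Nat.le_of_dvd (by omega) this
        omega
      · rw [h4]; ring
    · apply Dvd.dvd.mul_left
      exact (dvd_pow_sub (by rw [he]; exact h) Fintype.card_pos).trans
        (Finset.dvd_prod_of_mem _ (Finset.mem_range.2 (by omega : i < m - 1)))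
  exact ((Nat.Prime.dvd_mul hr).1 h1).resolve_left (not_dvd_gcd hr h3)

theorem not_dvd_out {S : Type*} [Group S] {f r : ℕ} (hO : Nat.card (Cfsg.Out S) ∣ 24 * f) (hr : r.Prime)
    (h3 : 3 < r) (hrf : ¬ r ∣ f) : ¬ r ∣ Nat.card (Cfsg.Out S) := by
  intro h
  rcases (Nat.Prime.dvd_mul hr).1 (h.trans hO) with h1 | h1
  · have h2 : r ∣ 2 ^ 3 * 3 := h1
    rcases (Nat.Prime.dvd_mul hr).1 h2 with h4 | h4
    · have := (Nat.prime_dvd_prime_iff_eq hr Nat.prime_two).1 (hr.dvd_of_dvd_pow h4)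
      omega
    · have := (Nat.prime_dvd_prime_iff_eq hr Nat.prime_three).1 h4
      omega
  · exact hrf h1

/-- the numerical condition for non-adjacency -/
def NA (m k l : ℕ) : Prop :=
  ∃ ηk ηl : ℕ, ((Odd k ∧ ηk = k) ∨ (Even k ∧ 2 * ηk = k)) ∧ ((Odd l ∧ ηl = l) ∨ (Even l ∧ 2 * ηl = l)) ∧
    ηk ≤ ηl ∧ (¬ ∃ t : ℕ, Odd t ∧ l = k * t) ∧ m < ηk + ηl

/-- `k` even, `l` odd -/
theorem NA.even_odd {m j l : ℕ} (hl : Odd l) (h1 : j ≤ l) (h2 : m < j + l) : NA m (2 * j) l := by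
  refine ⟨j, l, Or.inr ⟨even_two_mul j, rfl⟩, Or.inl ⟨hl, rfl⟩, h1, ?_, h2⟩
  rintro ⟨t, -, ht⟩
  rw [ht, mul_assoc, Nat.odd_mul] at hl
  exact absurd hl.1 (by decide)

/-- both even -/
theorem NA.even_even {m j l : ℕ} (h1 : j < l) (h3 : l < 3 * j) (h2 : m < j + l) : NA m (2 * j) (2 * l) := by
  refine ⟨j, l, Or.inr ⟨even_two_mul j, rfl⟩, Or.inr ⟨even_two_mul l, rfl⟩, h1.le, ?_, h2⟩
  rintro ⟨t, hto, ht⟩
  have h4 : l = j * t := by nlinarith
  have h5 : t ≠ 0 := by rintro rfl; omega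
  have h6 : t ≠ 1 := by rintro rfl; omega
  have h7 : t ≠ 2 := by
    rintro rfl
    exact absurd hto (by decide)
  have h8 : 3 ≤ t := by omega
  have : j * 3 ≤ j * t := Nat.mul_le_mul_left j h8
  omega

/-- **Assembly**: three primes with pairwise non-adjacent orders. -/
theorem has3Out_of {ι : Type} [Fintype ι] [DecidableEq ι] {F : Type*} [Field F] [Fintype F] {p f m : ℕ} [Fact p.Prime]
    [CharP F p] (Q : QuadraticForm F (ι → F)) (hQ : Nondeg Q) (hc : Fintype.card ι = 2 * m) (hm : 4 ≤ m)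
    (hO : Nat.card (Cfsg.Out (Cfsg.POmega F ⇑Q)) ∣ 24 * f)
    {e : Fin 3 → ℕ} {r : Fin 3 → ℕ} (hr : ∀ i, (r i).Prime) (h3 : ∀ i, 3 < r i) (hrp : ∀ i, r i ≠ p)
    (hrf : ∀ i, ¬ r i ∣ f) (he : ∀ i, orderOf ((Fintype.card F : ℕ) : ZMod (r i)) = e i)
    (hd : ∀ i, r i ∣ Nat.card (Cfsg.POmega F ⇑Q)) (hinj : Function.Injective e)
    (hNA : ∀ i j, i < j → NA m (e i) (e j) ∨ NA m (e j) (e i)) :
    H163.PG.Has3Out (Cfsg.POmega F ⇑Q) := by
  have hne : ∀ i j, i ≠ j → r i ≠ r j := by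
    intro i j hij h
    apply hij
    apply hinj
    rw [← he i, ← he j, h]
  have hnadj : ∀ i j, i < j → ¬ H163.PG.Adj (Cfsg.POmega F ⇑Q) (r i) (r j) := by
    intro i j hij
    have hr2 : ∀ i, r i ≠ 2 := fun i => by have := h3 i; omega
    rcases hNA i j hij with ⟨ηk, ηl, h1, h2, h4, h5, h6⟩ | ⟨ηk, ηl, h1, h2, h4, h5, h6⟩
    · exact orth_nonadj (p := p) Q hQ (by omega) (hr i) (hr j) (hr2 i) (hr2 j) (hrp i) (hrp j) (hne i j hij.ne)
        (he i).symm (he j).symm h1 h2 h4 h5 (by omega)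
    · intro hadj
      exact orth_nonadj (p := p) Q hQ (by omega) (hr j) (hr i) (hr2 j) (hr2 i) (hrp j) (hrp i) (hne j i hij.ne')
        (he j).symm (he i).symm h1 h2 h4 h5 (by omega) hadj.symm
  exact ⟨r 0, r 1, r 2, hr 0, hr 1, hr 2, hne 0 1 (by decide), hne 1 2 (by decide), hne 0 2 (by decide), hd 0, hd 1,
    hd 2, hnadj 0 1 (by decide), hnadj 1 2 (by decide), hnadj 0 2 (by decide), not_dvd_out hO (hr 0) (h3 0) (hrf 0),
    not_dvd_out hO (hr 1) (h3 1) (hrf 1), not_dvd_out hO (hr 2) (h3 2) (hrf 2)⟩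

theorem inj3 {a b c : ℕ} (h01 : a ≠ b) (h02 : a ≠ c) (h12 : b ≠ c) : Function.Injective ![a, b, c] := by
  intro i j hij
  fin_cases i <;> fin_cases j <;> simp at hij ⊢ <;> omega

/-- prime `7` for `q = 2`, `e = 3` is covered by `exists_pos_prime` -/
theorem plus_has3Out {F : Type*} [Field F] [Fintype F] {p f m : ℕ} [Fact p.Prime] (hf : 1 ≤ f)
    (hF : Fintype.card F = p ^ f) (hm : 4 ≤ m) (hex : ¬ (m = 4 ∧ Fintype.card F = 2))
    (hO : Nat.card (Cfsg.Out (Cfsg.POmega F (Cfsg.quadFormPlus m F))) ∣ 24 * f) :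
    H163.PG.Has3Out (Cfsg.POmega F (Cfsg.quadFormPlus m F)) := by
  have hp : p.Prime := Fact.out
  have : CharP F p := by
    obtain ⟨p', hc⟩ := CharP.exists F
    obtain ⟨n, hp1, hn⟩ := FiniteField.card F p'
    have h1 : p ∣ p' ^ (n : ℕ) := by
      rw [← hn, hF]
      exact dvd_pow_self _ (by omega)
    have h2 := (Nat.prime_dvd_prime_iff_eq hp hp1).1 (hp.dvd_of_dvd_pow h1)
    rw [h2]; exact hc
  have hcard : Fintype.card (Fin m ⊕ Fin m) = 2 * m := by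
    rw [Fintype.card_sum, Fintype.card_fin]; omega
  -- the exponents
  obtain ⟨e0, e1, e2, h0, h1, h2, h01, h02, h12, d0, d1, d2, n01, n02, n12, he0, he1, he2⟩ :
      ∃ e0 e1 e2 : ℕ, 3 ≤ e0 ∧ 3 ≤ e1 ∧ 3 ≤ e2 ∧ e0 ≠ e1 ∧ e0 ≠ e2 ∧ e1 ≠ e2 ∧
        (e0 ∣ m ∨ ∃ i, i + 1 < m ∧ e0 ∣ 2 * (i + 1)) ∧ (e1 ∣ m ∨ ∃ i, i + 1 < m ∧ e1 ∣ 2 * (i + 1)) ∧
        (e2 ∣ m ∨ ∃ i, i + 1 < m ∧ e2 ∣ 2 * (i + 1)) ∧ (NA m e0 e1 ∨ NA m e1 e0) ∧ (NA m e0 e2 ∨ NA m e2 e0) ∧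
        (NA m e1 e2 ∨ NA m e2 e1) ∧ (¬ (e0 = 6 ∧ Fintype.card F = 2)) ∧ (¬ (e1 = 6 ∧ Fintype.card F = 2)) ∧
        ¬ (e2 = 6 ∧ Fintype.card F = 2) := by
    -- the odd exponent `i ∈ {m - 1, m}`
    obtain ⟨i, hi, him, hi1, hid⟩ : ∃ i, Odd i ∧ i ≤ m ∧ m - 1 ≤ i ∧ (i ∣ m ∨ ∃ j, j + 1 < m ∧ i ∣ 2 * (j + 1)) := by
      rcases Nat.even_or_odd m with h | h
      · refine ⟨m - 1, ?_, by omega, le_rfl, Or.inr ⟨m - 2, by omega, ?_⟩⟩
        · rw [Nat.even_iff] at h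
          rw [Nat.odd_iff]; omega
        · rw [show m - 2 + 1 = m - 1 by omega]
          exact dvd_mul_left _ _
      · exact ⟨m, h, le_rfl, by omega, Or.inl dvd_rfl⟩
    have hi' := Nat.odd_iff.1 hi
    by_cases h5 : m = 5 ∧ Fintype.card F = 2
    · obtain ⟨rfl, h2⟩ := h5
      refine ⟨2 * 4, 5, 3, by norm_num, by norm_num, by norm_num, by norm_num, by norm_num, by norm_num,
        Or.inr ⟨3, by norm_num, by norm_num⟩, Or.inl dvd_rfl, Or.inr ⟨2, by norm_num, by norm_num⟩,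
        Or.inl (NA.even_odd (by decide) (by norm_num) (by norm_num)), Or.inr ?_, Or.inr ?_, by norm_num,
        by norm_num, by norm_num⟩
      · refine ⟨3, 4, Or.inl ⟨by decide, rfl⟩, Or.inr ⟨by decide, rfl⟩, by norm_num, ?_, by norm_num⟩
        rintro ⟨t, -, ht⟩; omega
      · refine ⟨3, 5, Or.inl ⟨by decide, rfl⟩, Or.inl ⟨by decide, rfl⟩, by norm_num, ?_, by norm_num⟩
        rintro ⟨t, -, ht⟩; omega
    · refine ⟨2 * (m - 1), 2 * (m - 2), i, by clear hid; omega, by clear hid; omega, by clear hid; omega, by clear hid; omega, by clear hid; omega, by clear hid; omega,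
        Or.inr ⟨m - 2, by clear hid; omega, by rw [show m - 2 + 1 = m - 1 by clear hid; omega]⟩,
        Or.inr ⟨m - 3, by clear hid; omega, by rw [show m - 3 + 1 = m - 2 by clear hid; omega]⟩, hid,
        Or.inr (NA.even_even (by clear hid; omega) (by clear hid; omega) (by clear hid; omega)),
        Or.inl (NA.even_odd hi (by clear hid; omega) (by clear hid; omega)), Or.inl (NA.even_odd hi (by clear hid; omega) (by clear hid; omega)), ?_, ?_, ?_⟩
      · rintro ⟨h, h2⟩; exact hex ⟨by clear hid; omega, h2⟩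
      · rintro ⟨h, h2⟩; exact h5 ⟨by clear hid; omega, h2⟩
      · rintro ⟨h, h2⟩; clear hid; omega
  obtain ⟨r0, hr0, ho0, hf0, hp0, hl0⟩ := exists_pos_prime hp hF hf h0 he0
  obtain ⟨r1, hr1, ho1, hf1, hp1, hl1⟩ := exists_pos_prime hp hF hf h1 he1
  obtain ⟨r2, hr2, ho2, hf2, hp2, hl2⟩ := exists_pos_prime hp hF hf h2 he2
  have l0 : 3 < r0 := by omega
  have l1 : 3 < r1 := by omega
  have l2 : 3 < r2 := by omega
  have key := has3Out_of (p := p) (f := f) (m := m) (plusForm m F) (nondeg_plusForm m F) hcard hm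
    (by rw [coe_plusForm]; exact hO) (e := ![e0, e1, e2]) (r := ![r0, r1, r2])
    (by intro i; fin_cases i <;> assumption)
    (by intro i; fin_cases i <;> assumption)
    (by intro i; fin_cases i <;> assumption)
    (by intro i; fin_cases i <;> assumption)
    (by intro i; fin_cases i <;> assumption)
    (by
      rw [coe_plusForm]
      intro i
      fin_cases i
      · exact dvd_plus hm hr0 l0 ho0 d0
      · exact dvd_plus hm hr1 l1 ho1 d1
      · exact dvd_plus hm hr2 l2 ho2 d2)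
    (inj3 h01 h02 h12)
    (by
      intro i j hij
      fin_cases i <;> fin_cases j <;> first | exact absurd hij (by decide) | assumption)
  rw [coe_plusForm] at key
  exact key

theorem minus_has3Out {F : Type*} [Field F] [Fintype F] {p f m : ℕ} [Fact p.Prime] (hf : 1 ≤ f)
    (hF : Fintype.card F = p ^ f) (hm : 4 ≤ m) (a b : F)
    (hab : ∀ z₁ z₂ : F, z₁ ^ 2 + a * z₁ * z₂ + b * z₂ ^ 2 = 0 → z₁ = 0 ∧ z₂ = 0)
    (hO : Nat.card (Cfsg.Out (Cfsg.POmega F (Cfsg.quadFormMinus (m - 1) F a b))) ∣ 24 * f) :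
    H163.PG.Has3Out (Cfsg.POmega F (Cfsg.quadFormMinus (m - 1) F a b)) := by
  have hp : p.Prime := Fact.out
  have : CharP F p := by
    obtain ⟨p', hc⟩ := CharP.exists F
    obtain ⟨n, hp1, hn⟩ := FiniteField.card F p'
    have h1 : p ∣ p' ^ (n : ℕ) := by
      rw [← hn, hF]
      exact dvd_pow_self _ (by omega)
    have h2 := (Nat.prime_dvd_prime_iff_eq hp hp1).1 (hp.dvd_of_dvd_pow h1)
    rw [h2]; exact hc
  have hcard : Fintype.card ((Fin (m - 1) ⊕ Fin (m - 1)) ⊕ Fin 2) = 2 * m := by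
    rw [Fintype.card_sum, Fintype.card_sum, Fintype.card_fin, Fintype.card_fin]; omega
  obtain ⟨e0, e1, e2, h0, h1, h2, h01, h02, h12, d0, d1, d2, n01, n02, n12, he0, he1, he2⟩ :
      ∃ e0 e1 e2 : ℕ, 3 ≤ e0 ∧ 3 ≤ e1 ∧ 3 ≤ e2 ∧ e0 ≠ e1 ∧ e0 ≠ e2 ∧ e1 ≠ e2 ∧
        (e0 = 2 * m ∨ ∃ i, i + 1 < m ∧ e0 ∣ 2 * (i + 1)) ∧ (e1 = 2 * m ∨ ∃ i, i + 1 < m ∧ e1 ∣ 2 * (i + 1)) ∧
        (e2 = 2 * m ∨ ∃ i, i + 1 < m ∧ e2 ∣ 2 * (i + 1)) ∧ (NA m e0 e1 ∨ NA m e1 e0) ∧ (NA m e0 e2 ∨ NA m e2 e0) ∧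
        (NA m e1 e2 ∨ NA m e2 e1) ∧ (¬ (e0 = 6 ∧ Fintype.card F = 2)) ∧ (¬ (e1 = 6 ∧ Fintype.card F = 2)) ∧
        ¬ (e2 = 6 ∧ Fintype.card F = 2) := by
    by_cases h4 : m = 4 ∧ Fintype.card F = 2
    · obtain ⟨rfl, h2⟩ := h4
      refine ⟨2 * 4, 2 * 2, 3, by norm_num, by norm_num, by norm_num, by norm_num, by norm_num, by norm_num,
        Or.inl rfl, Or.inr ⟨1, by norm_num, by norm_num⟩, Or.inr ⟨2, by norm_num, by norm_num⟩,
        Or.inr (NA.even_even (by norm_num) (by norm_num) (by norm_num)), Or.inr ?_,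
        Or.inl (NA.even_odd (by decide) (by norm_num) (by norm_num)), by norm_num, by norm_num, by norm_num⟩
      refine ⟨3, 4, Or.inl ⟨by decide, rfl⟩, Or.inr ⟨by decide, rfl⟩, by norm_num, ?_, by norm_num⟩
      rintro ⟨t, -, ht⟩; omega
    by_cases h5 : m = 5 ∧ Fintype.card F = 2
    · obtain ⟨rfl, h2⟩ := h5
      refine ⟨2 * 5, 2 * 4, 3, by norm_num, by norm_num, by norm_num, by norm_num, by norm_num, by norm_num,
        Or.inl rfl, Or.inr ⟨3, by norm_num, by norm_num⟩, Or.inr ⟨2, by norm_num, by norm_num⟩,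
        Or.inr (NA.even_even (by norm_num) (by norm_num) (by norm_num)), Or.inr ?_, Or.inr ?_, by norm_num,
        by norm_num, by norm_num⟩
      · refine ⟨3, 5, Or.inl ⟨by decide, rfl⟩, Or.inr ⟨by decide, rfl⟩, by norm_num, ?_, by norm_num⟩
        rintro ⟨t, -, ht⟩; omega
      · refine ⟨3, 4, Or.inl ⟨by decide, rfl⟩, Or.inr ⟨by decide, rfl⟩, by norm_num, ?_, by norm_num⟩
        rintro ⟨t, -, ht⟩; omega
    · refine ⟨2 * m, 2 * (m - 1), 2 * (m - 2), by omega, by omega, by omega, by omega, by omega, by omega,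
        Or.inl rfl, Or.inr ⟨m - 2, by omega, by rw [show m - 2 + 1 = m - 1 by omega]⟩,
        Or.inr ⟨m - 3, by omega, by rw [show m - 3 + 1 = m - 2 by omega]⟩,
        Or.inr (NA.even_even (by omega) (by omega) (by omega)),
        Or.inr (NA.even_even (by omega) (by omega) (by omega)),
        Or.inr (NA.even_even (by omega) (by omega) (by omega)), ?_, ?_, ?_⟩
      · rintro ⟨h, h2⟩; omega
      · rintro ⟨h, h2⟩; exact h4 ⟨by omega, h2⟩
      · rintro ⟨h, h2⟩; exact h5 ⟨by omega, h2⟩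
  obtain ⟨r0, hr0, ho0, hf0, hp0, hl0⟩ := exists_pos_prime hp hF hf h0 he0
  obtain ⟨r1, hr1, ho1, hf1, hp1, hl1⟩ := exists_pos_prime hp hF hf h1 he1
  obtain ⟨r2, hr2, ho2, hf2, hp2, hl2⟩ := exists_pos_prime hp hF hf h2 he2
  have l0 : 3 < r0 := by omega
  have l1 : 3 < r1 := by omega
  have l2 : 3 < r2 := by omega
  have key := has3Out_of (p := p) (f := f) (m := m) (minusForm (m - 1) F a b) (nondeg_minusForm (m - 1) F a b hab) hcard hm
    (by rw [coe_minusForm]; exact hO) (e := ![e0, e1, e2]) (r := ![r0, r1, r2])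
    (by intro i; fin_cases i <;> assumption)
    (by intro i; fin_cases i <;> assumption)
    (by intro i; fin_cases i <;> assumption)
    (by intro i; fin_cases i <;> assumption)
    (by intro i; fin_cases i <;> assumption)
    (by
      rw [coe_minusForm]
      intro i
      fin_cases i
      · exact dvd_minus hm hab hr0 l0 ho0 d0
      · exact dvd_minus hm hab hr1 l1 ho1 d1
      · exact dvd_minus hm hab hr2 l2 ho2 d2)
    (inj3 h01 h02 h12)
    (by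
      intro i j hij
      fin_cases i <;> fin_cases j <;> first | exact absurd hij (by decide) | assumption)
  rw [coe_minusForm] at key
  exact key

end Cfsg.Agent.H149.PGO
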