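import Cfsg.Agent.H149.PGO3
import Cfsg.Agent.H163.PG.Few
import Cfsg.Agent.S2605
import Cfsg.Agent.S2606
import Cfsg.Agent.S2607
import Cfsg.Agent.S2608
import Mathlib

/-!
# The rows `PΩ⁺_{2m}(q)`, `PΩ⁻_{2m}(q)`, `m ≥ 4`, of S2529
-/

set_option autoImplicit false

namespace Cfsg.Agent.H149.PGO

theorem exists_pf (F : Type*) [Field F] [Fintype F] :
    ∃ p f : ℕ, p.Prime ∧ 1 ≤ f ∧ Fintype.card F = p ^ f := by
  obtain ⟨p, hc⟩ := CharP.exists F
  obtain ⟨m, hp, hm⟩ := FiniteField.card F p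
  exact ⟨p, m, hp, m.2, hm⟩

theorem card_out_plus {F : Type*} [Field F] [Fintype F] {p f m : ℕ} [Fact p.Prime] (hf : 1 ≤ f)
    (hF : Fintype.card F = p ^ f) (hm : 4 ≤ m) :
    Nat.card (Cfsg.Out (Cfsg.POmega F (Cfsg.quadFormPlus m F))) ∣ 24 * f := by
  by_cases hp : p = 2
  · subst hp
    have h := S2607.result hf hF hm
    split_ifs at h with h4
    · obtain ⟨e⟩ := h
      rw [Nat.card_congr e.toEquiv, Nat.card_prod, Nat.card_congr Multiplicative.toAdd, Nat.card_zmod,
        Nat.card_perm, Nat.card_fin]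
      exact Nat.mul_dvd_mul_right (by decide) f
    · obtain ⟨e⟩ := h
      rw [Nat.card_congr e.toEquiv, Nat.card_congr Multiplicative.toAdd, Nat.card_prod, Nat.card_zmod,
        Nat.card_zmod]
      exact Nat.mul_dvd_mul_right (by decide) f
  · have h := S2608.result hf hF hp hm
    split_ifs at h with h4 h5
    · obtain ⟨e⟩ := h
      rw [Nat.card_congr e.toEquiv, Nat.card_prod, Nat.card_congr Multiplicative.toAdd, Nat.card_zmod,
        Nat.card_perm, Nat.card_fin]
      exact Nat.mul_dvd_mul_right (by decide) f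
    · obtain ⟨e⟩ := h
      rw [Nat.card_congr e.toEquiv, Nat.card_congr Multiplicative.toAdd, Nat.card_prod, Nat.card_prod,
        Nat.card_zmod, Nat.card_zmod, ← mul_assoc]
      exact Nat.mul_dvd_mul_right (by decide) f
    · obtain ⟨e⟩ := h
      rw [Nat.card_congr e.toEquiv, Nat.card_prod, Nat.card_congr Multiplicative.toAdd, Nat.card_zmod,
        DihedralGroup.nat_card]
      exact Nat.mul_dvd_mul_right (by decide) f

theorem card_out_minus {F : Type*} [Field F] [Fintype F] {p f m : ℕ} [Fact p.Prime] (hf : 1 ≤ f)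
    (hF : Fintype.card F = p ^ f) (hm : 4 ≤ m) (a b : F)
    (hab : ∀ z₁ z₂ : F, z₁ ^ 2 + a * z₁ * z₂ + b * z₂ ^ 2 = 0 → z₁ = 0 ∧ z₂ = 0) :
    Nat.card (Cfsg.Out (Cfsg.POmega F (Cfsg.quadFormMinus (m - 1) F a b))) ∣ 24 * f := by
  by_cases hp : p = 2
  · subst hp
    rw [(S2605.result hf hF hm a b hab).2]
    exact Nat.mul_dvd_mul_right (by decide) f
  · have h := S2606.result hf hF hp hm a b hab
    split_ifs at h with h4
    · obtain ⟨e⟩ := h
      rw [Nat.card_congr e.toEquiv, Nat.card_prod, Nat.card_congr Multiplicative.toAdd, Nat.card_zmod,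
        DihedralGroup.nat_card]
      exact Nat.mul_dvd_mul_right (by decide) f
    · obtain ⟨e⟩ := h
      rw [Nat.card_congr e.toEquiv, Nat.card_congr Multiplicative.toAdd, Nat.card_prod, Nat.card_zmod,
        Nat.card_zmod, ← mul_assoc]
      exact Nat.mul_dvd_mul_right (by decide) f

/-- **Row `PΩ⁺_{2m}(q)`, `m ≥ 4`.** -/
theorem plus_goal.{a, b} {F : Type a} [Field F] [Fintype F] {m : ℕ} (hm : 4 ≤ m) :
    H163.PG.Goal.{a, b} (Cfsg.POmega F (Cfsg.quadFormPlus m F)) := by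
  obtain ⟨p, f, hp, hf, hF⟩ := exists_pf F
  have := Fact.mk hp
  have hO := card_out_plus (m := m) hf hF hm
  by_cases hex : m = 4 ∧ Fintype.card F = 2
  · obtain ⟨rfl, h2⟩ := hex
    have hf1 : p = 2 ∧ f = 1 := by
      have h3 : p ∣ 2 := by rw [← h2, hF]; exact dvd_pow_self p (by omega)
      have h4 := (Nat.prime_dvd_prime_iff_eq hp Nat.prime_two).1 h3
      subst h4
      exact ⟨rfl, Nat.pow_right_injective le_rfl (by simpa using hF.symm.trans h2)⟩
    obtain ⟨rfl, rfl⟩ := hf1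
    have hfin : Finite (Cfsg.POmega F (Cfsg.quadFormPlus 4 F)) := inferInstance
    apply H163.PG.goal_of_primes {2, 3, 5, 7} (by decide)
    · intro r hr hd
      have h := S0293.result (F := F) rfl 4 le_rfl
      rw [h2] at h
      have h1 : r ∣ 2 ^ 12 * (3 ^ 5 * (5 ^ 2 * 7)) := by
        have h2 : r ∣ Nat.gcd 4 (2 ^ 4 - 1) * Nat.card (Cfsg.POmega F (Cfsg.quadFormPlus 4 F)) :=
          hd.mul_left _
        rw [h] at h2
        refine h2.trans ?_
        decide
      rcases (Nat.Prime.dvd_mul hr).1 h1 with h2 | h2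
      · have := (Nat.prime_dvd_prime_iff_eq hr Nat.prime_two).1 (hr.dvd_of_dvd_pow h2)
        simp [this]
      · rcases (Nat.Prime.dvd_mul hr).1 h2 with h3 | h3
        · have := (Nat.prime_dvd_prime_iff_eq hr Nat.prime_three).1 (hr.dvd_of_dvd_pow h3)
          simp [this]
        · rcases (Nat.Prime.dvd_mul hr).1 h3 with h4 | h4
          · have := (Nat.prime_dvd_prime_iff_eq hr (by norm_num : Nat.Prime 5)).1 (hr.dvd_of_dvd_pow h4)
            simp [this]
          · have := (Nat.prime_dvd_prime_iff_eq hr (by norm_num : Nat.Prime 7)).1 h4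
            simp [this]
    · intro r hr hd
      have h3 : r ∣ 2 ^ 3 * 3 := hd.trans (hO.trans (by decide))
      rcases (Nat.Prime.dvd_mul hr).1 h3 with h4 | h4
      · have := (Nat.prime_dvd_prime_iff_eq hr Nat.prime_two).1 (hr.dvd_of_dvd_pow h4)
        simp [this]
      · have := (Nat.prime_dvd_prime_iff_eq hr Nat.prime_three).1 h4
        simp [this]
  · exact H163.PG.goal_of_has3Out (plus_has3Out hf hF hm hex hO)

/-- **Row `PΩ⁻_{2m}(q)`, `m ≥ 4`.** -/
theorem minus_goal.{a, b} {F : Type a} [Field F] [Fintype F] {m : ℕ} (hm : 4 ≤ m) (x y : F)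
    (hab : ∀ z₁ z₂ : F, z₁ ^ 2 + x * z₁ * z₂ + y * z₂ ^ 2 = 0 → z₁ = 0 ∧ z₂ = 0) :
    H163.PG.Goal.{a, b} (Cfsg.POmega F (Cfsg.quadFormMinus (m - 1) F x y)) := by
  obtain ⟨p, f, hp, hf, hF⟩ := exists_pf F
  have := Fact.mk hp
  exact H163.PG.goal_of_has3Out (minus_has3Out hf hF hm x y hab (card_out_minus hf hF hm x y hab))

end Cfsg.Agent.H149.PGO
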