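import Cfsg.Agent.H376.SpOrbit
import Cfsg.Agent.H376.SpCount
import Cfsg.Agent.LieClassical.FieldTransfer
import Cfsg.Agent.H163.PG.Base
import Cfsg.Agent.Lib.Zsigmondy
import Cfsg.Agent.S0279
import Cfsg.Agent.S0280
import Mathlib

/-!
# Non-adjacency in the prime graph of `PSU_n(q)`

`psu_adj`: if `PSU_n(q)` has an element of order `r * s` (distinct primes prime to `q (q + 1)`) and `a`, `b` are
the orders of `-q` modulo `r`, `s`, then `a + b ≤ n` or `a`, `b` have a positive common multiple `≤ n`.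
`psu_has3Out`: for `n ≥ 5`, `(n, q) ≠ (5, 2)` there are three pairwise non-adjacent primes prime to `|Out|`.
-/

set_option autoImplicit false

namespace Cfsg.Agent.H149.PGU

open Matrix Module Cfsg.Agent.H376

/-! ### Roots -/

/-- **The eigenvalues of a unitary matrix of order `r * s`.** -/
theorem exists_rootsU.{u} {F : Type u} [Field F] [Fintype F] {p f q : ℕ} [Fact p.Prime] [CharP F p]
    (hq : q = p ^ f) {ι : Type*} [Fintype ι] [DecidableEq ι]
    (X : Matrix ι ι F) (hX : (X.map (iterateFrobenius F p f)).charpoly = X⁻¹.charpoly) {r s : ℕ} (hr : (r : F) ≠ 0)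
    (hs : (s : F) ≠ 0) (h1 : X ^ (r * s) = 1) (h2 : X ^ s ≠ 1) (h3 : X ^ r ≠ 1) :
    ∃ (L : Type u) (_ : Field L) (R : Finset L), R.card ≤ Fintype.card ι ∧
      (∀ x ∈ R, (x ^ q)⁻¹ ∈ R) ∧ (∀ x ∈ R, x ^ (r * s) = 1) ∧
      (∃ a ∈ R, a ^ s ≠ 1) ∧ (∃ b ∈ R, b ^ r ≠ 1) := by
  classical
  let L := AlgebraicClosure F
  let f' : F →+* L := algebraMap F L
  have hf : Function.Injective f' := f'.injective
  have : CharP L p := charP_of_injective_algebraMap hf p
  let Y : Matrix ι ι L := X.map f'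
  have hY : ∀ i : ℕ, Y ^ i = (X ^ i).map f' := by
    intro i
    have := (f'.mapMatrix (m := ι)).map_pow X i
    exact this.symm
  have hY1 : ∀ i : ℕ, Y ^ i = 1 ↔ X ^ i = 1 := by
    intro i
    rw [hY, show (1 : Matrix ι ι L) = (1 : Matrix ι ι F).map f' from
      (f'.mapMatrix (m := ι)).map_one.symm]
    constructor
    · intro h
      exact Matrix.map_injective hf h
    · intro h
      rw [h]
  have hmem : ∀ x : L, x ∈ (X.charpoly.aroots L).toFinset ↔ Module.End.HasEigenvalue (Y.toLin') x := by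
    intro x
    rw [Module.End.hasEigenvalue_iff_isRoot_charpoly, Matrix.charpoly_toLin', Matrix.charpoly_map,
      Multiset.mem_toFinset, Polynomial.aroots_def, Polynomial.mem_roots]
    exact (Polynomial.Monic.map _ (Matrix.charpoly_monic _)).ne_zero
  have hunit : IsUnit X.det := by
    have h4 : X.det ^ (r * s) = 1 := by rw [← Matrix.det_pow, h1, Matrix.det_one]
    refine IsUnit.of_pow_eq_one h4 ?_
    intro h0
    rcases Nat.mul_eq_zero.1 h0 with h | h
    · apply hr; rw [h]; simp
    · apply hs; rw [h]; simp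
  have hinv : X * X⁻¹ = 1 := Matrix.mul_nonsing_inv _ hunit
  have hpow : ∀ x ∈ (X.charpoly.aroots L).toFinset, x ^ (r * s) = 1 := by
    intro x hx
    rw [hmem] at hx
    obtain ⟨v, hv⟩ := hx.exists_hasEigenvector
    have h4 := (hv.pow_apply (r * s))
    rw [← Matrix.toLin'_pow, (hY1 _).2 h1, Matrix.toLin'_one, LinearMap.id_apply] at h4
    have h5 : (x ^ (r * s) - 1) • v = 0 := by rw [sub_smul, one_smul, ← h4, sub_self]
    exact sub_eq_zero.1 ((smul_eq_zero.1 h5).resolve_right hv.2)
  refine ⟨L, inferInstance, (X.charpoly.aroots L).toFinset, ?_, ?_, hpow, ?_, ?_⟩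
  · refine (Multiset.toFinset_card_le _).trans ((Polynomial.card_roots' _).trans ?_)
    rw [Polynomial.natDegree_map, Matrix.charpoly_natDegree_eq_dim]
  · intro x hx
    have hx' := hx
    rw [Multiset.mem_toFinset, Polynomial.mem_aroots] at hx
    -- `x ^ q` is a root of `X⁻¹.charpoly`
    have h4 : Polynomial.eval₂ f' (x ^ q) X⁻¹.charpoly = 0 := by
      rw [← hX, show X.map (iterateFrobenius F p f) = (iterateFrobenius F p f).mapMatrix X from rfl]
      rw [show ((iterateFrobenius F p f).mapMatrix X).charpoly = X.charpoly.map (iterateFrobenius F p f) from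
        Matrix.charpoly_map _ _]
      rw [Polynomial.eval₂_map]
      have h5 : f'.comp (iterateFrobenius F p f) = (iterateFrobenius L p f).comp f' := by
        ext a
        simp [iterateFrobenius_def]
      rw [h5, show x ^ q = iterateFrobenius L p f x by rw [iterateFrobenius_def, hq]]
      rw [← Polynomial.hom_eval₂]
      have h6 : Polynomial.eval₂ f' x X.charpoly = 0 := hx.2
      rw [h6, map_zero]
    have h7 : Module.End.HasEigenvalue (X⁻¹.map f').toLin' (x ^ q) := by
      rw [Module.End.hasEigenvalue_iff_isRoot_charpoly, Matrix.charpoly_toLin', Matrix.charpoly_map,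
        Polynomial.IsRoot.def, Polynomial.eval_map]
      exact h4
    have hx0 : x ^ q ≠ 0 := by
      have := hpow x hx'
      intro h0
      have hx0 : x = 0 := by
        by_contra h
        exact (pow_ne_zero _ h) h0
      rw [hx0] at this
      by_cases hrs : r * s = 0
      · rcases Nat.mul_eq_zero.1 hrs with h | h
        · apply hr; rw [h]; simp
        · apply hs; rw [h]; simp
      · rw [zero_pow hrs] at this
        exact zero_ne_one this
    obtain ⟨v, hv⟩ := h7.exists_hasEigenvector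
    have hv1 := hv.apply_eq_smul
    rw [hmem]
    refine Module.End.hasEigenvalue_of_hasEigenvector (x := v)
      ⟨Module.End.mem_eigenspace_iff.2 ?_, hv.2⟩
    rw [Matrix.toLin'_apply] at hv1 ⊢
    have h8 : Y *ᵥ ((X⁻¹.map f') *ᵥ v) = v := by
      rw [Matrix.mulVec_mulVec]
      have h6 : Y * X⁻¹.map f' = 1 := by
        have := (f'.mapMatrix (m := ι)).map_mul X X⁻¹
        rw [hinv, map_one] at this
        exact this.symm
      rw [h6, Matrix.one_mulVec]
    rw [hv1, Matrix.mulVec_smul] at h8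
    rw [← h8, smul_smul, inv_mul_cancel₀ hx0, one_smul, h8]
  · obtain ⟨a, ha, ha1⟩ := SpOrbit.exists_eigen (L := L) (Y.toLin') (r := r) (s := s)
      (by
        intro h
        apply hr
        apply hf
        rw [map_natCast, map_zero, h]) (by
        rw [← pow_mul, ← Matrix.toLin'_pow, (hY1 _).2 (by rw [mul_comm, h1]), Matrix.toLin'_one]
        rfl) (by
        intro h
        apply h2
        rw [← hY1]
        apply Matrix.toLin'.injective
        rw [Matrix.toLin'_pow, h, Matrix.toLin'_one]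
        rfl)
    exact ⟨a, (hmem a).2 ha, ha1⟩
  · obtain ⟨a, ha, ha1⟩ := SpOrbit.exists_eigen (L := L) (Y.toLin') (r := s) (s := r)
      (by
        intro h
        apply hs
        apply hf
        rw [map_natCast, map_zero, h]) (by
        rw [← pow_mul, ← Matrix.toLin'_pow, (hY1 _).2 h1, Matrix.toLin'_one]
        rfl) (by
        intro h
        apply h3
        rw [← hY1]
        apply Matrix.toLin'.injective
        rw [Matrix.toLin'_pow, h, Matrix.toLin'_one]
        rfl)
    exact ⟨a, (hmem a).2 ha, ha1⟩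

/-! ### Orbits -/

section

variable {L : Type*} [Field L] {q m : ℕ} (R : Finset L) (hR : ∀ x ∈ R, (x ^ q)⁻¹ ∈ R)

include hR in
theorem pow_mem [NeZero m] {c : (ZMod m)ˣ} (hc : (c : ZMod m) = -(q : ZMod m)) (i : ℕ) :
    ∀ x ∈ R, x ^ m = 1 → x ^ (((c ^ i : (ZMod m)ˣ) : ZMod m).val) ∈ R := by
  induction i with
  | zero =>
    intro x hx hxm
    have h1 : x ^ (((c ^ 0 : (ZMod m)ˣ) : ZMod m).val) = x ^ 1 := by
      apply pow_eq_pow_of_modEq _ hxm
      rw [pow_zero, Units.val_one, ← ZMod.natCast_eq_natCast_iff, ZMod.natCast_zmod_val, Nat.cast_one]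
    rw [h1, pow_one]
    exact hx
  | succ i ih =>
    intro x hx hxm
    rw [pow_succ, Units.val_mul, SpCount.pow_val_mul hxm]
    set y := x ^ (((c ^ i : (ZMod m)ˣ) : ZMod m).val) with hy
    have hyR := ih x hx hxm
    have hym : y ^ m = 1 := by rw [hy, ← pow_mul, mul_comm, pow_mul, hxm, one_pow]
    have h2 : y ^ ((c : ZMod m).val) = (y ^ q)⁻¹ := by
      apply eq_inv_of_mul_eq_one_left
      rw [← pow_add, ← pow_zero y]
      apply pow_eq_pow_of_modEq _ hym
      rw [← ZMod.natCast_eq_natCast_iff]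
      push_cast
      rw [ZMod.natCast_zmod_val, hc]
      simp
    rw [h2]
    exact hR _ hyR

include hR in
theorem card_le [NeZero m] {c : (ZMod m)ˣ} (hc : (c : ZMod m) = -(q : ZMod m)) {x : L} (hx : x ∈ R)
    (hxm : orderOf x = m) [DecidableEq L] :
    orderOf c ≤ (R.filter fun y => orderOf y = m).card := by
  have hx1 : x ^ m = 1 := by rw [← hxm]; exact pow_orderOf_eq_one x
  rw [← Finset.card_range (orderOf c)]
  apply Finset.card_le_card_of_injOn (fun i => x ^ (((c ^ i : (ZMod m)ˣ) : ZMod m).val))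
  · intro i _
    rw [Finset.mem_coe, Finset.mem_filter]
    refine ⟨pow_mem R hR hc i x hx hx1, ?_⟩
    rw [Nat.Coprime.orderOf_pow, hxm]
    rw [hxm]
    exact (ZMod.val_coe_unit_coprime _).symm
  · intro i hi j hj hij
    have h2 := pow_injOn_Iio_orderOf (x := x) (by rw [hxm]; exact ZMod.val_lt _)
      (by rw [hxm]; exact ZMod.val_lt _) hij
    have h3 := Units.ext (ZMod.val_injective m h2)
    exact pow_injOn_Iio_orderOf (x := c) (by simpa using hi) (by simpa using hj) h3

end

/-- **The weights.** -/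
theorem weights {L : Type*} [Field L] {q n r s : ℕ} (R : Finset L) (hR : ∀ x ∈ R, (x ^ q)⁻¹ ∈ R)
    (hRn : R.card ≤ n) (hr : r.Prime) (hs : s.Prime) (hrs : r ≠ s) (hqr : q.Coprime r) (hqs : q.Coprime s)
    (h1 : ∀ x ∈ R, x ^ (r * s) = 1) (h2 : ∃ a ∈ R, a ^ s ≠ 1) (h3 : ∃ b ∈ R, b ^ r ≠ 1) :
    orderOf (-(q : ZMod r)) + orderOf (-(q : ZMod s)) ≤ n ∨
      ∃ d, 0 < d ∧ d ≤ n ∧ orderOf (-(q : ZMod r)) ∣ d ∧ orderOf (-(q : ZMod s)) ∣ d := by
  classical
  have hunit : ∀ m : ℕ, q.Coprime m → ∃ c : (ZMod m)ˣ, (c : ZMod m) = -(q : ZMod m) := by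
    intro m hm
    exact ⟨-(ZMod.unitOfCoprime q hm), by rw [Units.val_neg, ZMod.coe_unitOfCoprime]⟩
  have : NeZero (r * s) := ⟨(Nat.mul_pos hr.pos hs.pos).ne'⟩
  have : NeZero r := ⟨hr.pos.ne'⟩
  have : NeZero s := ⟨hs.pos.ne'⟩
  obtain ⟨c, hc⟩ := hunit (r * s) (Nat.Coprime.mul_right hqr hqs)
  obtain ⟨cr, hcr⟩ := hunit r hqr
  obtain ⟨cs, hcs⟩ := hunit s hqs
  have hcr' : orderOf cr = orderOf (-(q : ZMod r)) := by rw [← hcr, orderOf_units]
  have hcs' : orderOf cs = orderOf (-(q : ZMod s)) := by rw [← hcs, orderOf_units]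
  obtain ⟨a, ha, ha1⟩ := h2
  obtain ⟨b, hb, hb1⟩ := h3
  by_cases hbig : ∃ x ∈ R, orderOf x = r * s
  · obtain ⟨x, hx, hxo⟩ := hbig
    right
    refine ⟨orderOf c, orderOf_pos c, ?_, ?_, ?_⟩
    · exact (card_le R hR hc hx hxo).trans ((Finset.card_le_card (Finset.filter_subset _ _)).trans hRn)
    · have h := orderOf_map_dvd (ZMod.castHom (Dvd.intro s rfl : r ∣ r * s) (ZMod r)).toMonoidHom (c : ZMod (r * s))
      rw [orderOf_units] at h
      have h' : (ZMod.castHom (Dvd.intro s rfl : r ∣ r * s) (ZMod r)).toMonoidHom (c : ZMod (r * s)) =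
          -(q : ZMod r) := by
        show (ZMod.castHom (Dvd.intro s rfl : r ∣ r * s) (ZMod r)) (c : ZMod (r * s)) = _
        rw [hc, map_neg, map_natCast]
      rwa [h'] at h
    · have h := orderOf_map_dvd (ZMod.castHom (Dvd.intro_left r rfl : s ∣ r * s) (ZMod s)).toMonoidHom
        (c : ZMod (r * s))
      rw [orderOf_units] at h
      have h' : (ZMod.castHom (Dvd.intro_left r rfl : s ∣ r * s) (ZMod s)).toMonoidHom (c : ZMod (r * s)) =
          -(q : ZMod s) := by
        show (ZMod.castHom (Dvd.intro_left r rfl : s ∣ r * s) (ZMod s)) (c : ZMod (r * s)) = _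
        rw [hc, map_neg, map_natCast]
      rwa [h'] at h
  · left
    have hdiv : ∀ x ∈ R, orderOf x = 1 ∨ orderOf x = r ∨ orderOf x = s := by
      intro x hx
      have h3 := orderOf_dvd_of_pow_eq_one (h1 x hx)
      obtain ⟨u, v, hu, hv, huv⟩ := exists_dvd_and_dvd_of_dvd_mul h3
      rcases (Nat.dvd_prime hr).1 hu with h4 | h4 <;> rcases (Nat.dvd_prime hs).1 hv with h5 | h5 <;>
        rw [h4, h5] at huv
      · left; simpa using huv
      · right; right; simpa using huv
      · right; left; simpa using huv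
      · exact (hbig ⟨x, hx, huv⟩).elim
    have hao : orderOf a = r := by
      rcases hdiv a ha with h | h | h
      · exact (ha1 (by rw [orderOf_eq_one_iff.1 h, one_pow])).elim
      · exact h
      · exact (ha1 (by rw [← h, pow_orderOf_eq_one])).elim
    have hbo : orderOf b = s := by
      rcases hdiv b hb with h | h | h
      · exact (hb1 (by rw [orderOf_eq_one_iff.1 h, one_pow])).elim
      · exact (hb1 (by rw [← h, pow_orderOf_eq_one])).elim
      · exact h
    have h3 := card_le R hR hcr ha hao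
    have h4 := card_le R hR hcs hb hbo
    have h7 : (R.filter fun y => orderOf y = r).card + (R.filter fun y => orderOf y = s).card ≤
        R.card := by
      rw [← Finset.card_union_of_disjoint]
      · apply Finset.card_le_card
        intro z hz
        rw [Finset.mem_union, Finset.mem_filter, Finset.mem_filter] at hz
        tauto
      · rw [Finset.disjoint_filter]
        intro z _ hz1 hz2
        exact hrs (hz1.symm.trans hz2)
    rw [← hcr', ← hcs']
    omega

/-! ### Unitary matrices -/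

theorem unitary_mul {F : Type*} [Field F] {p f q n : ℕ} [Fact p.Prime] [CharP F p] (hq : q = p ^ f)
    {A : Matrix.SpecialLinearGroup (Fin n) F} (hA : A ∈ Cfsg.SU n F q) :
    (A : Matrix (Fin n) (Fin n) F)ᵀ * (A : Matrix (Fin n) (Fin n) F).map (iterateFrobenius F p f) = 1 := by
  classical
  ext i j
  have h := (LieClassical.FieldTransfer.mem_SU_iff A).1 hA (Pi.single i 1) (Pi.single j 1)
  have hq0 : q ≠ 0 := by rw [hq]; exact pow_ne_zero _ (Fact.out : p.Prime).ne_zero
  have h1 : hermForm n F q (Pi.single i 1) (Pi.single j 1) = (1 : Matrix (Fin n) (Fin n) F) i j := by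
    unfold hermForm
    rw [Matrix.one_apply]
    rw [Finset.sum_eq_single i]
    · by_cases hij : i = j
      · subst hij; simp
      · rw [Pi.single_eq_same, Pi.single_eq_of_ne hij, zero_pow hq0, mul_zero, if_neg hij]
    · intro k _ hk
      rw [Pi.single_eq_of_ne hk, zero_mul]
    · simp
  rw [h1] at h
  rw [← h, Matrix.mul_apply]
  unfold hermForm
  apply Finset.sum_congr rfl
  intro k _
  simp only [Matrix.transpose_apply, Matrix.map_apply, Matrix.mulVec_single_one, Matrix.col_apply, iterateFrobenius_def, hq]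

theorem charpoly_unitary {F : Type*} [Field F] {p f q n : ℕ} [Fact p.Prime] [CharP F p] (hq : q = p ^ f)
    {A : Matrix.SpecialLinearGroup (Fin n) F} (hA : A ∈ Cfsg.SU n F q) :
    ((A : Matrix (Fin n) (Fin n) F).map (iterateFrobenius F p f)).charpoly =
      ((A : Matrix (Fin n) (Fin n) F)⁻¹).charpoly := by
  have h := unitary_mul hq hA
  have h1 : (A : Matrix (Fin n) (Fin n) F).map (iterateFrobenius F p f) = ((A : Matrix (Fin n) (Fin n) F)ᵀ)⁻¹ :=
    (Matrix.inv_eq_right_inv h).symm
  rw [h1, ← Matrix.transpose_nonsing_inv, Matrix.charpoly_transpose]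

/-- **Adjacency in `PSU_n(q)`.** -/
theorem psu_adj {F : Type*} [Field F] [Fintype F] {p f q n : ℕ} [Fact p.Prime] (hq : q = p ^ f)
    (hF : Fintype.card F = q ^ 2) (hn : 3 ≤ n) {r s : ℕ} (hr : r.Prime) (hs : s.Prime) (hrs : r ≠ s)
    (hrp : r ≠ p) (hsp : s ≠ p) (hr1 : ¬ r ∣ q + 1) (hs1 : ¬ s ∣ q + 1)
    (h : H163.PG.Adj (Cfsg.PSU n F q) r s) :
    orderOf (-(q : ZMod r)) + orderOf (-(q : ZMod s)) ≤ n ∨
      ∃ d, 0 < d ∧ d ≤ n ∧ orderOf (-(q : ZMod r)) ∣ d ∧ orderOf (-(q : ZMod s)) ∣ d := by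
  have hp : p.Prime := Fact.out
  have hf0 : f ≠ 0 := by
    rintro rfl
    rw [pow_zero] at hq
    rw [hq, one_pow] at hF
    have := Fintype.one_lt_card (α := F)
    omega
  have : CharP F p := by
    obtain ⟨p', hc⟩ := CharP.exists F
    obtain ⟨m, hp1, hm⟩ := FiniteField.card F p'
    have h1 : p ∣ p' ^ (m : ℕ) := by
      rw [← hm, hF, hq]
      exact dvd_pow (dvd_pow_self _ hf0) two_ne_zero
    have h2 := (Nat.prime_dvd_prime_iff_eq hp hp1).1 (hp.dvd_of_dvd_pow h1)
    rw [h2]; exact hc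
  have hrF : (r : F) ≠ 0 := by
    intro h0
    rw [CharP.cast_eq_zero_iff F p] at h0
    exact hrp (((Nat.dvd_prime hr).1 h0).resolve_left hp.one_lt.ne').symm
  have hsF : (s : F) ≠ 0 := by
    intro h0
    rw [CharP.cast_eq_zero_iff F p] at h0
    exact hsp (((Nat.dvd_prime hs).1 h0).resolve_left hp.one_lt.ne').symm
  have hqr : q.Coprime r := by
    rw [hq]; exact Nat.Coprime.pow_left _ ((Nat.coprime_primes hp hr).2 hrp.symm)
  have hqs : q.Coprime s := by
    rw [hq]; exact Nat.Coprime.pow_left _ ((Nat.coprime_primes hp hs).2 hsp.symm)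
  set Z := Subgroup.center (Cfsg.SU n F q) with hZ
  have hZc : ∀ x ∈ Z, x ^ Nat.gcd n (q + 1) = 1 := by
    intro x hx
    have h1 : (⟨x, hx⟩ : Z) ^ Nat.card Z = 1 := pow_card_eq_one'
    have h2 : Nat.card Z = Nat.gcd n (q + 1) := S0279.result hF n hn
    have h3 := congrArg Subtype.val h1
    rw [h2] at h3
    exact h3
  have hcop : Nat.Coprime (Nat.gcd n (q + 1)) (r * s) := by
    apply Nat.Coprime.mul_right
    · rw [Nat.coprime_comm, hr.coprime_iff_not_dvd]
      exact fun h => hr1 (h.trans (Nat.gcd_dvd_right _ _))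
    · rw [Nat.coprime_comm, hs.coprime_iff_not_dvd]
      exact fun h => hs1 (h.trans (Nat.gcd_dvd_right _ _))
  obtain ⟨x, hx⟩ := h
  obtain ⟨y, hy1, hy2⟩ := PrimeOrd.exists_lift Z hZc hcop x hx
  have hys : y ^ s ≠ 1 := by
    intro h
    have h3 : (QuotientGroup.mk y : Cfsg.PSU n F q) ^ s = 1 := by
      rw [← QuotientGroup.mk_pow, h, QuotientGroup.mk_one]
    have h4 := orderOf_dvd_of_pow_eq_one h3
    rw [hy2] at h4
    have := Nat.le_of_dvd hs.pos h4
    nlinarith [hr.two_le, hs.pos]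
  have hyr : y ^ r ≠ 1 := by
    intro h
    have h3 : (QuotientGroup.mk y : Cfsg.PSU n F q) ^ r = 1 := by
      rw [← QuotientGroup.mk_pow, h, QuotientGroup.mk_one]
    have h4 := orderOf_dvd_of_pow_eq_one h3
    rw [hy2] at h4
    have := Nat.le_of_dvd hr.pos h4
    nlinarith [hs.two_le, hr.pos]
  have hval : ∀ i : ℕ, (y.1 : Matrix (Fin n) (Fin n) F) ^ i = 1 ↔ y ^ i = 1 := by
    intro i
    constructor
    · intro h
      apply Subtype.ext
      apply Subtype.ext
      change ((y ^ i : Cfsg.SU n F q).1 : Matrix (Fin n) (Fin n) F) = ((1 : Cfsg.SU n F q).1 : Matrix (Fin n) (Fin n) F)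
      rw [Subgroup.coe_pow, Matrix.SpecialLinearGroup.coe_pow, h, Subgroup.coe_one, Matrix.SpecialLinearGroup.coe_one]
    · intro h
      have h1 := congrArg (fun z : Cfsg.SU n F q => (z.1 : Matrix (Fin n) (Fin n) F)) h
      simpa using h1
  obtain ⟨L, _, R, hR, hRq, hR1, hRa, hRb⟩ := exists_rootsU hq (y.1 : Matrix (Fin n) (Fin n) F)
    (charpoly_unitary hq y.2) hrF hsF ((hval _).2 hy1) (fun h => hys ((hval _).1 h)) (fun h => hyr ((hval _).1 h))
  rw [Fintype.card_fin] at hR
  exact weights R hRq hR hr hs hrs hqr hqs hR1 hRa hRb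

end Cfsg.Agent.H149.PGU
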